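import Cfsg.Agent.H779.G2.Stmts
import Cfsg.Agent.H732.PU.Chain
import Cfsg.Agent.Lib.FrattiniPGroup

/-!
# S5211, task [G2-Ea]: essential subgroups contained in `Q_a`, `p ≠ 3`
-/

set_option autoImplicit false

namespace Cfsg.Agent.H403.GT

open Cfsg Cfsg.FusionSystem Cfsg.Agent.H756.PU Cfsg.Agent.H779.G2

universe u

section
variable {K : Type u} [Field K]

/-- the commutator form on `Q_a` -/
def om (x y : GU K) : K := 3 * (x.d * y.c - y.d * x.c) - (x.e * y.b - y.e * x.b)

theorem comm_eq {x y : GU K} (hx : x.a = 0) (hy : y.a = 0) :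
    x * y * x⁻¹ * y⁻¹ = ⟨0, 0, 0, 0, 0, om x y⟩ := by
  ext <;> simp [om, hx, hy] <;> ring

theorem commute_iff {x y : GU K} (hx : x.a = 0) (hy : y.a = 0) : x * y = y * x ↔ om x y = 0 := by
  constructor
  · intro h
    have h1 := comm_eq hx hy
    have h2 : x * y * x⁻¹ * y⁻¹ = 1 := by rw [h]; group
    rw [h2] at h1
    have := congrArg GU.f h1
    simpa using this.symm
  · intro h
    have h1 := comm_eq hx hy
    rw [h] at h1
    have h2 : x * y * x⁻¹ * y⁻¹ = 1 := by rw [h1]; rfl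
    have h3 : x * y * (y * x)⁻¹ = 1 := by rw [mul_inv_rev, ← mul_assoc]; exact h2
    exact mul_inv_eq_one.mp h3

/-- scaling of the coordinates `b, c, d, e`, with an arbitrary last coordinate -/
def scl (l t : K) (x : GU K) : GU K := ⟨0, l * x.b, l * x.c, l * x.d, l * x.e, t⟩

theorem om_scl (l t : K) (x y : GU K) : om x (scl l t y) = l * om x y := by
  simp only [om, scl]; ring

theorem om_scl' (l t : K) (x y : GU K) : om (scl l t x) y = l * om x y := by
  simp only [om, scl]; ring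

theorem Z1_central {z : GU K} (hz : z ∈ Z1 K) (x : GU K) : z * x = x * z := by
  obtain ⟨h1, h2, h3, h4, h5⟩ := hz
  ext <;> simp [h1, h2, h3, h4, h5] <;> ring

instance Z1_normal : (Z1 K).Normal := ⟨fun z hz x => by
  rw [← Z1_central hz x, mul_assoc, mul_inv_cancel, mul_one]; exact hz⟩

/-- the image in `K⁴` -/
def pr (x : GU K) : Fin 4 → K := ![x.b, x.c, x.d, x.e]

/-- the form on `K⁴` -/
noncomputable def B4 (K : Type u) [Field K] : LinearMap.BilinForm K (Fin 4 → K) :=
  LinearMap.mk₂ K (fun v w => 3 * (v 2 * w 1 - w 2 * v 1) - (v 3 * w 0 - w 3 * v 0))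
    (by intro a b c; simp only [Pi.add_apply]; ring)
    (by intro a b c; simp only [Pi.smul_apply, smul_eq_mul]; ring)
    (by intro a b c; simp only [Pi.add_apply]; ring)
    (by intro a b c; simp only [Pi.smul_apply, smul_eq_mul]; ring)

theorem B4_apply (v w : Fin 4 → K) :
    B4 K v w = 3 * (v 2 * w 1 - w 2 * v 1) - (v 3 * w 0 - w 3 * v 0) := rfl

theorem B4_pr (x y : GU K) : B4 K (pr x) (pr y) = om x y := rfl

theorem B4_nondeg (h3 : (3 : K) ≠ 0) : (B4 K).Nondegenerate := by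
  have key : ∀ v : Fin 4 → K, (∀ w, B4 K v w = 0) → v = 0 := by
    intro v hv
    have h0 := hv ![1, 0, 0, 0]
    have h1 := hv ![0, 1, 0, 0]
    have h2 := hv ![0, 0, 1, 0]
    have h4 := hv ![0, 0, 0, 1]
    simp [B4_apply] at h0 h1 h2 h4
    funext i
    fin_cases i
    · exact h4
    · simpa using (h2.resolve_left h3)
    · simpa using (h1.resolve_left h3)
    · exact h0
  have hsymm : ∀ v w, B4 K v w = - B4 K w v := by
    intro v w; simp only [B4_apply]; ring
  constructor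
  · intro v hv
    exact key v hv
  · intro v hv
    apply key v
    intro w
    rw [hsymm, hv w, neg_zero]

theorem pr_mul {x y : GU K} (_ : x.a = 0) (hy : y.a = 0) : pr (x * y) = pr x + pr y := by
  funext i
  fin_cases i <;> simp [pr, hy]

theorem pr_scl (l t : K) (x : GU K) : pr (scl l t x) = l • pr x := by
  funext i
  fin_cases i <;> rfl

theorem card_Z1 [Finite K] : Nat.card (Z1 K) = Nat.card K :=
  Nat.card_congr
    { toFun := fun x => (x : GU K).f
      invFun := fun t => ⟨⟨0, 0, 0, 0, 0, t⟩, rfl, rfl, rfl, rfl, rfl⟩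
      left_inv := by
        rintro ⟨x, h1, h2, h3, h4, h5⟩
        apply Subtype.ext
        ext <;> simp [h1, h2, h3, h4, h5]
      right_inv := fun t => rfl }

/-- coordinates on `Q_a` -/
def equivQa : Qa K ≃ K × K × K × K × K where
  toFun x := ((x : GU K).b, (x : GU K).c, (x : GU K).d, (x : GU K).e, (x : GU K).f)
  invFun t := ⟨{ a := 0, b := t.1, c := t.2.1, d := t.2.2.1, e := t.2.2.2.1, f := t.2.2.2.2 }, rfl⟩
  left_inv := by
    rintro ⟨x, h1⟩
    have h1' : x.a = 0 := h1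
    apply Subtype.ext
    ext <;> simp [h1']
  right_inv _ := rfl

theorem card_Qa [Finite K] : Nat.card (Qa K) = Nat.card K ^ 5 := by
  rw [Nat.card_congr equivQa]
  simp only [Nat.card_prod]
  ring

theorem card_mul_relIndex' {G : Type*} [Group G] {H L : Subgroup G} (h : H ≤ L) :
    Nat.card H * H.relIndex L = Nat.card L := by
  rw [← Subgroup.relIndex_bot_left, ← Subgroup.relIndex_bot_left]
  exact Subgroup.relIndex_mul_relIndex ⊥ H L bot_le h

theorem relIndex_sup_le {G : Type*} [Group G] [Finite G] (N M : Subgroup G) [N.Normal] :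
    M.relIndex (N ⊔ M) ≤ Nat.card N := by
  have h1 : Nat.card M * M.relIndex (N ⊔ M) = Nat.card (N ⊔ M : Subgroup G) :=
    card_mul_relIndex' le_sup_right
  have h2 : Nat.card N * N.relIndex (N ⊔ M) = Nat.card (N ⊔ M : Subgroup G) :=
    card_mul_relIndex' le_sup_left
  rw [Subgroup.relIndex_sup_left] at h2
  have h3 : N.relIndex M ≤ Nat.card M := by
    have := (N.subgroupOf M).index_dvd_card
    exact Nat.le_of_dvd Nat.card_pos this
  have h4 : Nat.card M * M.relIndex (N ⊔ M) ≤ Nat.card M * Nat.card N := by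
    rw [h1, ← h2, mul_comm]
    exact Nat.mul_le_mul_right _ h3
  exact Nat.le_of_mul_le_mul_left h4 Nat.card_pos

/-- `Z(E)` is invariant -/
theorem inv_center {Ω : Type*} [Group Ω] {E : Subgroup Ω} (Γ : Subgroup (MulAut E)) :
    Inv Γ (E ⊓ Subgroup.centralizer (E : Set Ω)) := by
  refine ⟨inf_le_left, ?_⟩
  intro γ _ e he
  refine Subgroup.mem_inf.mpr ⟨(γ e).2, Subgroup.mem_centralizer_iff.mpr ?_⟩
  intro y hy
  have h1 := (Subgroup.mem_centralizer_iff.mp he.2) (γ⁻¹ ⟨y, hy⟩ : E) (γ⁻¹ ⟨y, hy⟩ : E).2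
  have h2 : (γ⁻¹ ⟨y, hy⟩ : E) * e = e * (γ⁻¹ ⟨y, hy⟩ : E) := Subtype.ext h1
  have h3 := congrArg γ h2
  rw [map_mul, map_mul] at h3
  have h4 : γ (γ⁻¹ ⟨y, hy⟩ : E) = ⟨y, hy⟩ := by
    change (γ * γ⁻¹) _ = _
    simp
  rw [h4] at h3
  exact congrArg Subtype.val h3

/-- **[G2-Ea]** -/
theorem stEa (hd : StDual.{u}) : StEa.{u} := by
  intro K _ p n H hp3 _ E Γ hE hEa
  have : Finite K := H.fin
  have : Fact p.Prime := ⟨H.pp⟩
  have : CharP K p := H.char
  have h3 : (3 : K) ≠ 0 := by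
    intro h
    have h' : ((3 : ℕ) : K) = 0 := by exact_mod_cast h
    rw [CharP.cast_eq_zero_iff K p] at h'
    exact hp3 ((Nat.prime_dvd_prime_iff_eq H.pp Nat.prime_three).mp h')
  have hq : 1 < Nat.card K := by
    rw [H.card]
    exact Nat.one_lt_pow (by have := H.hn; omega) H.pp.one_lt
  set Z := E ⊓ Subgroup.centralizer (E : Set (GU K)) with hZ
  have hZE : Z ≤ E := inf_le_left
  have hZ1E : Z1 K ≤ E := fun z hz => hE.cent z trivial fun e _ => Z1_central hz e
  have hZ1Z : Z1 K ≤ Z := fun z hz => Subgroup.mem_inf.mpr ⟨hZ1E hz,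
    Subgroup.mem_centralizer_iff.mpr fun y _ => (Z1_central hz y).symm⟩
  have hinv : Inv Γ Z := inv_center Γ
  have hcomm1 : ∀ x ∈ Qa K, ∀ y ∈ Qa K, x * y * x⁻¹ * y⁻¹ ∈ Z1 K := by
    intro x hx y hy
    rw [comm_eq hx hy]
    exact ⟨rfl, rfl, rfl, rfl, rfl⟩
  have hX : Qa K ⊓ Subgroup.centralizer (Z : Set (GU K)) ≤ E := by
    have hc : Com (Qa K ⊓ Subgroup.centralizer (Z : Set (GU K))) Z Z := by
      intro x hx z hz
      have := (Subgroup.mem_centralizer_iff.mp hx.2) z hz
      rw [show x * z * x⁻¹ * z⁻¹ = 1 by rw [← this]; group]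
      exact one_mem _
    refine Cfsg.Agent.H732.PU.stChain hE Z Z Z hinv hinv hinv le_rfl le_rfl _ le_top ?_ hc hc ?_
    · intro x hx e he
      exact hZ1Z (hcomm1 x hx.1 e (hEa he))
    · intro x hx z hz
      exact ((Subgroup.mem_centralizer_iff.mp hx.2) z hz).symm
  have hmem : ∀ x : GU K, x.a = 0 → (∀ z ∈ Z, om x z = 0) → x ∈ E := by
    intro x hx h
    apply hX
    refine Subgroup.mem_inf.mpr ⟨hx, Subgroup.mem_centralizer_iff.mpr ?_⟩
    intro z hz
    exact ((commute_iff hx (hEa (hZE hz))).mpr (h z hz)).symm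
  have hom : ∀ x ∈ E, ∀ z ∈ Z, om x z = 0 := by
    intro x hx z hz
    apply (commute_iff (hEa hx) (hEa (hZE hz))).mp
    exact (Subgroup.mem_centralizer_iff.mp hz.2) x hx
  have hscl : ∀ x ∈ E, ∀ l t : K, scl l t x ∈ E := by
    intro x hx l t
    apply hmem _ rfl
    intro z hz
    rw [om_scl', hom x hx z hz, mul_zero]
  have hnorm : Qa K ≤ normalizerIn ⊤ E := by
    intro x hx
    refine Subgroup.mem_inf.mpr ⟨trivial, Subgroup.mem_normalizer_iff.mpr ?_⟩
    intro y
    have key : ∀ x ∈ Qa K, ∀ y ∈ E, x * y * x⁻¹ ∈ E := by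
      intro x hx y hy
      have h1 := hZ1E (hcomm1 x hx y (hEa hy))
      have h2 := mul_mem h1 hy
      rwa [show x * y * x⁻¹ * y⁻¹ * y = x * y * x⁻¹ by group] at h2
    constructor
    · intro hy
      exact key x hx y hy
    · intro hy
      have := key x⁻¹ (inv_mem hx) _ hy
      rwa [show x⁻¹ * (x * y * x⁻¹) * x⁻¹⁻¹ = y by group] at this
  by_cases hab : ∃ x ∈ E, ∃ y ∈ E, om x y ≠ 0
  · -- `E` is not abelian
    obtain ⟨x, hx, y, hy, hxy⟩ := hab
    have hEp : IsPGroup p E := hE.pgr.to_le hE.E_le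
    have hZ1F : Z1 K ≤ (frattini E).map E.subtype := by
      intro z hz
      have h1 : (⟨x, hx⟩ * ⟨scl (z.f / om x y) 0 y, hscl y hy _ _⟩ * (⟨x, hx⟩ : E)⁻¹ *
          (⟨scl (z.f / om x y) 0 y, hscl y hy _ _⟩ : E)⁻¹ : E) ∈ frattini E :=
        Cfsg.Agent.Lib.FrattiniPGroup.commutator_le_frattini hEp
          (Subgroup.commutator_mem_commutator (Subgroup.mem_top _) (Subgroup.mem_top _))
      refine ⟨_, h1, ?_⟩
      change x * scl (z.f / om x y) 0 y * x⁻¹ * (scl (z.f / om x y) 0 y)⁻¹ = z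
      rw [comm_eq (hEa hx) rfl, om_scl, div_mul_cancel₀ _ hxy]
      obtain ⟨k1, k2, k3, k4, k5⟩ := hz
      ext <;> simp [k1, k2, k3, k4, k5]
    have h1 := hd hE ⊥ (Qa K) hnorm bot_le (by
      intro a ha m hm
      exact (le_sup_right : _ ≤ (⊥ : Subgroup (GU K)) ⊔ _) (hZ1F (hcomm1 a ha m (hEa hm))))
    rw [bot_sup_eq, Subgroup.relIndex_self] at h1
    have : Finite (GU K) := inferInstance
    have h2 : E.relIndex (Qa K) = 1 := le_antisymm h1 (Nat.one_le_iff_ne_zero.mpr
      (E.subgroupOf (Qa K)).index_ne_zero_of_finite)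
    exact le_antisymm hEa (Subgroup.relIndex_eq_one.mp h2)
  · -- `E` is abelian
    exfalso
    push Not at hab
    set W : Submodule K (Fin 4 → K) :=
      { carrier := {v | ∃ x ∈ E, pr x = v}
        add_mem' := by
          rintro _ _ ⟨x, hx, rfl⟩ ⟨y, hy, rfl⟩
          exact ⟨x * y, mul_mem hx hy, pr_mul (hEa hx) (hEa hy)⟩
        zero_mem' := ⟨1, one_mem _, by
          funext i
          fin_cases i <;> rfl⟩
        smul_mem' := by
          rintro l _ ⟨x, hx, rfl⟩
          exact ⟨scl l 0 x, hscl x hx l 0, pr_scl l 0 x⟩ } with hW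
    have hiso : W ≤ (B4 K).orthogonal W := by
      rintro _ ⟨x, hx, rfl⟩ _ ⟨y, hy, rfl⟩
      exact hab y hy x hx
    have hfr : Module.finrank K W ≤ 2 := by
      have h1 := Submodule.finrank_mono hiso
      rw [LinearMap.BilinForm.finrank_orthogonal (B4_nondeg h3), Module.finrank_fin_fun] at h1
      omega
    have hcW : Nat.card W ≤ Nat.card K ^ 2 := by
      rw [Module.natCard_eq_pow_finrank (K := K)]
      exact Nat.pow_le_pow_right (by omega) hfr
    have hcE : Nat.card E ≤ Nat.card K ^ 3 := by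
      have hinj : Function.Injective
          (fun x : E => ((⟨pr (x : GU K), x, x.2, rfl⟩ : W), (x : GU K).f)) := by
        intro x y hxy
        simp only [Prod.mk.injEq, Subtype.mk.injEq] at hxy
        apply Subtype.ext
        have k0 := congrFun hxy.1 0
        have k1 := congrFun hxy.1 1
        have k2 := congrFun hxy.1 2
        have k3 := congrFun hxy.1 3
        exact GU.ext ((hEa x.2 : (x : GU K).a = 0).trans (hEa y.2 : (y : GU K).a = 0).symm) k0 k1 k2 k3 hxy.2
      calc Nat.card E ≤ Nat.card (W × K) := Nat.card_le_card_of_injective _ hinj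
        _ = Nat.card W * Nat.card K := Nat.card_prod _ _
        _ ≤ Nat.card K ^ 2 * Nat.card K := Nat.mul_le_mul_right _ hcW
        _ = Nat.card K ^ 3 := by ring
    have h1 := hd hE (Z1 K) (Qa K) hnorm hZ1E (by
      intro a ha m hm
      exact (le_sup_left : Z1 K ≤ _) (hcomm1 a ha m (hEa hm)))
    have h2 := h1.trans (relIndex_sup_le (Z1 K) _)
    have h4 : E.relIndex (Qa K) * Nat.card E = Nat.card (Qa K) := by
      rw [mul_comm]
      exact card_mul_relIndex' hEa
    rw [card_Qa] at h4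
    rw [card_Z1] at h2
    have h5 : Nat.card K ^ 5 ≤ Nat.card K ^ 4 := by
      rw [← h4]
      calc E.relIndex (Qa K) * Nat.card E ≤ Nat.card K * Nat.card K ^ 3 := Nat.mul_le_mul h2 hcE
        _ = Nat.card K ^ 4 := by ring
    exact absurd h5 (not_le.mpr (Nat.pow_lt_pow_right hq (by norm_num)))

end

end Cfsg.Agent.H403.GT
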